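import Groth.Agent.EtProj19.Main
import Groth.Agent.Coherent.QcohLocal
import Mathlib.Topology.Sheaves.SheafCondition.UniqueGluing

/-! A quasi-coherent module with small sections has a Zariski companion on every chart. -/

set_option linter.all false
set_option backward.isDefEq.respectTransparency false
set_option backward.isDefEq.respectTransparency.types false

universe u

open CategoryTheory Limits AlgebraicGeometry Opposite TensorProduct TopologicalSpace
open AlgSp
open Groth.Agent.AlgSpLib.QCohEt

noncomputable section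

namespace Groth.Agent.EtProj19

variable {S : Scheme.{u}} {X : Sp S} (M : ModEt X) [M.IsQuasicoherent]
  {U : Over S} (p : (yon S).obj U ⟶ X) (hpe : IsEtaleMor p)

/-- Restriction between the opens of a chart. -/
def openMap {W' W : U.left.Opens} (h : W' ≤ W) : openObj p hpe W' ⟶ openObj p hpe W :=
  (EtOver.postcomp p hpe).map ((EtOver.ofScheme U).map (etaleOfLE h))

omit [M.IsQuasicoherent] in
theorem openMap_ι {W' W : U.left.Opens} (h : W' ≤ W) :
    (openMap p hpe h).hom.left.left ≫ W.ι = W'.ι := U.left.homOfLE_ι h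

theorem openMap_rfl (W : U.left.Opens) : openMap p hpe (le_refl W) = 𝟙 _ :=
  EtOver.hom_ext _ _ (Over.OverMorphism.ext (U.left.homOfLE_rfl W))

theorem openMap_comp {W'' W' W : U.left.Opens} (h' : W'' ≤ W') (h : W' ≤ W) :
    openMap p hpe (h'.trans h) = openMap p hpe h' ≫ openMap p hpe h :=
  EtOver.hom_ext _ _ (Over.OverMorphism.ext (U.left.homOfLE_homOfLE h' h).symm)

theorem ringEquivOpen_map {W' W : U.left.Opens} (h : W' ≤ W) (a : ΓE (openObj p hpe W)) :
    ringEquivOpen p hpe W' ((ΓMap (openMap p hpe h)).hom a) =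
      U.left.presheaf.map (homOfLE h).op (ringEquivOpen p hpe W a) := by
  obtain ⟨a⟩ := a
  show ((U.left.homOfLE h).appTop ≫ W'.topIso.hom) a =
    (W.topIso.hom ≫ U.left.presheaf.map (homOfLE h).op) a
  have e : (U.left.homOfLE h).appTop ≫ W'.topIso.hom = W.topIso.hom ≫ U.left.presheaf.map (homOfLE h).op := by
    rw [Scheme.Hom.appTop, Scheme.homOfLE_app]
    simp only [Scheme.Opens.topIso_hom, ← Functor.map_comp]
    rfl
  exact congrArg (fun k : Γ(W.toScheme, ⊤) ⟶ Γ(U.left, W') => k a) e

theorem ringEquivOpen_symm_map {W' W : U.left.Opens} (h : W' ≤ W) (a : Γ(U.left, W)) :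
    (ΓMap (openMap p hpe h)).hom ((ringEquivOpen p hpe W).symm a) =
      (ringEquivOpen p hpe W').symm (U.left.presheaf.map (homOfLE h).op a) := by
  apply (ringEquivOpen p hpe W').injective
  rw [ringEquivOpen_map, RingEquiv.apply_symm_apply, RingEquiv.apply_symm_apply]

theorem small_open (hsmall : ∀ E : EtOver X, IsAff E → Small.{u} (Sec M E)) (W : U.left.Opens) :
    Small.{u} (Sec M (openObj p hpe W)) := by
  let I := {O : U.left.Opens // IsAffineOpen O ∧ O ≤ W}
  haveI : ∀ O : I, Small.{u} (Sec M (openObj p hpe O.1)) := fun O => hsmall _ O.2.1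
  refine small_of_injective (f := fun s (O : I) => mapSec M (openMap p hpe O.2.2) s) fun s t h => ?_
  refine mapSec_ext M (fun O : I => openMap p hpe O.2.2) (fun x => ?_) s t (congrFun h)
  obtain ⟨O, hO, hxO, hOW⟩ := exists_isAffineOpen_mem_and_subset (x := (W.ι x : U.left)) (U := W)
    (W.range_ι.subset ⟨x, rfl⟩)
  refine ⟨⟨O, hO, fun y hy => hOW hy⟩, (⟨W.ι x, hxO⟩ : O.toScheme), ?_⟩
  apply W.ι.isOpenEmbedding.injective
  exact congrArg (fun k : O.toScheme ⟶ U.left => k ⟨W.ι x, hxO⟩) (openMap_ι p hpe _)

variable [∀ W : U.left.Opens, Small.{u} (Sec M (openObj p hpe W))]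

/-- Sections over an open of a chart, in the small universe. -/
abbrev SecS (W : U.left.Opens) : Type u := Shrink.{u} (Sec M (openObj p hpe W))

/-- The identification with the large sections. -/
abbrev big (W : U.left.Opens) : SecS M p hpe W ≃+ Sec M (openObj p hpe W) := Shrink.addEquiv

/-- The presheaf of small sections. -/
def smallPresheaf : (U.left.Opens)ᵒᵖ ⥤ AddCommGrpCat.{u} where
  obj W := AddCommGrpCat.of (SecS M p hpe W.unop)
  map {W W'} f := AddCommGrpCat.ofHom (AddMonoidHom.comp (big M p hpe W'.unop).symm.toAddMonoidHom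
    ((mapSec M (openMap p hpe (leOfHom f.unop))).comp (big M p hpe W.unop).toAddMonoidHom))
  map_id W := by
    refine AddCommGrpCat.ext fun x => ?_
    show (big M p hpe W.unop).symm (mapSec M (openMap p hpe (le_refl W.unop)) (big M p hpe W.unop x)) = x
    rw [openMap_rfl]
    exact (congrArg _ (ConcreteCategory.congr_hom (M.val.presheaf.map_id (op (openObj p hpe W.unop))) _)).trans
      ((big M p hpe W.unop).symm_apply_apply x)
  map_comp {W W' W''} f g := by
    refine AddCommGrpCat.ext fun x => ?_
    show (big M p hpe W''.unop).symm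
        (mapSec M (openMap p hpe ((leOfHom g.unop).trans (leOfHom f.unop))) (big M p hpe W.unop x)) =
      (big M p hpe W''.unop).symm (mapSec M (openMap p hpe (leOfHom g.unop)) (big M p hpe W'.unop
        ((big M p hpe W'.unop).symm (mapSec M (openMap p hpe (leOfHom f.unop)) (big M p hpe W.unop x)))))
    rw [openMap_comp p hpe (leOfHom g.unop) (leOfHom f.unop), mapSec_comp, AddEquiv.apply_symm_apply]

/-- The action of functions on small sections. -/
instance moduleSecS (W : (U.left.Opens)ᵒᵖ) :
    Module (U.left.ringCatSheaf.obj.obj W) ((smallPresheaf M p hpe).obj W) :=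
  letI : Module (ΓE (openObj p hpe W.unop)) ((smallPresheaf M p hpe).obj W) :=
    (big M p hpe W.unop).toEquiv.module (ΓE (openObj p hpe W.unop))
  Module.compHom _ (ringEquivOpen p hpe W.unop).symm.toRingHom

theorem big_smul (W : U.left.Opens) (a : Γ(U.left, W)) (x : SecS M p hpe W) :
    big M p hpe W ((show U.left.ringCatSheaf.obj.obj (op W) from a) •
      (show (smallPresheaf M p hpe).obj (op W) from x)) =
      (ringEquivOpen p hpe W).symm a • big M p hpe W x :=
  (big M p hpe W).apply_symm_apply _

theorem smallPresheaf_map_smul {W W' : (U.left.Opens)ᵒᵖ} (f : W ⟶ W') (a : U.left.ringCatSheaf.obj.obj W)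
    (x : (smallPresheaf M p hpe).obj W) :
    (smallPresheaf M p hpe).map f (a • x) =
      U.left.ringCatSheaf.obj.map f a • (smallPresheaf M p hpe).map f x := by
  apply (big M p hpe W'.unop).injective
  show big M p hpe W'.unop ((big M p hpe W'.unop).symm (mapSec M _ (big M p hpe W.unop (a • x)))) = _
  refine ((big M p hpe W'.unop).apply_symm_apply _).trans ?_
  refine (congrArg _ (big_smul M p hpe W.unop a x)).trans ?_
  rw [mapSec_smul, ringEquivOpen_symm_map]
  refine Eq.trans ?_ (big_smul M p hpe W'.unop _ _).symm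
  refine congrArg _ ?_
  exact ((big M p hpe W'.unop).apply_symm_apply _).symm

omit [M.IsQuasicoherent] in
theorem smallPresheaf_isSheaf : TopCat.Presheaf.IsSheaf (X := U.left.toTopCat) (smallPresheaf M p hpe) := by
  rw [TopCat.Presheaf.isSheaf_iff_isSheafUniqueGluing]
  suffices key : ∀ {ι : Type u} (V : ι → U.left.Opens) (sf : ∀ i, SecS M p hpe (V i)),
      (∀ i j, (smallPresheaf M p hpe).map (homOfLE (inf_le_left : V i ⊓ V j ≤ V i)).op (sf i) =
        (smallPresheaf M p hpe).map (homOfLE (inf_le_right : V i ⊓ V j ≤ V j)).op (sf j)) →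
      ∃! s : SecS M p hpe (iSup V),
        ∀ i, (smallPresheaf M p hpe).map (homOfLE (le_iSup V i)).op s = sf i by
    intro ι V sf hsf
    exact key V sf hsf
  intro ι V sf hsf
  have hcov : ∀ x, ∃ j, x ∈ Set.range (openMap p hpe (le_iSup V j)).hom.left.left := by
    intro x
    obtain ⟨j, hj⟩ := Opens.mem_iSup.1 ((iSup V).range_ι.subset ⟨x, rfl⟩)
    refine ⟨j, (⟨(iSup V).ι x, hj⟩ : (V j).toScheme), ?_⟩
    apply (iSup V).ι.isOpenEmbedding.injective
    exact congrArg (fun k : (V j).toScheme ⟶ U.left => k ⟨(iSup V).ι x, hj⟩) (openMap_ι p hpe _)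
  have h1 := (isSheaf_iff_isSheaf_of_type _ _).1
    ((Presheaf.isSheaf_iff_isSheaf_forget (etTop X) M.val.presheaf (forget AddCommGrpCat.{u + 1})).1 M.isSheaf)
  have h2 := (Presieve.isSheafFor_iff_generate _).2
    (h1 _ (ofArrows_mem_etTop _ (fun j => openMap p hpe (le_iSup V j)) hcov))
  let y : ∀ j, Sec M (openObj p hpe (V j)) := fun j => big M p hpe (V j) (sf j)
  obtain ⟨s, hs, -⟩ := (Presieve.isSheafFor_arrows_iff _ _).1 h2 y fun i j T gi gj e => by
    change mapSec M gi (y i) = mapSec M gj (y j)
    let m : T.obj.left.left ⟶ U.left := gi.hom.left.left ≫ (V i).ι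
    have hm : m = gj.hom.left.left ≫ (V j).ι := by
      have h := congrArg (fun k => k.hom.left.left ≫ (iSup V).ι) e
      simp only [ObjectProperty.FullSubcategory.comp_hom, CostructuredArrow.comp_left, Over.comp_left,
        Category.assoc, openMap_ι] at h
      exact h
    have hr : Set.range m ⊆ Set.range (V i ⊓ V j).ι := by
      rintro _ ⟨t, rfl⟩
      rw [Scheme.Opens.range_ι]
      refine ⟨(V i).range_ι.subset ⟨gi.hom.left.left t, rfl⟩, ?_⟩
      rw [hm]
      exact (V j).range_ι.subset ⟨gj.hom.left.left t, rfl⟩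
    let k₀ := IsOpenImmersion.lift (V i ⊓ V j).ι m hr
    have hk₀ : k₀ ≫ (V i ⊓ V j).ι = m := IsOpenImmersion.lift_fac _ _ _
    have hki : k₀ ≫ U.left.homOfLE (inf_le_left : V i ⊓ V j ≤ V i) = gi.hom.left.left := by
      rw [← cancel_mono (V i).ι, Category.assoc, Scheme.homOfLE_ι, hk₀]
    have hkj : k₀ ≫ U.left.homOfLE (inf_le_right : V i ⊓ V j ≤ V j) = gj.hom.left.left := by
      rw [← cancel_mono (V j).ι, Category.assoc, Scheme.homOfLE_ι, hk₀, hm]
    have hw : k₀ ≫ (V i ⊓ V j).ι ≫ U.hom = T.obj.left.hom := by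
      rw [← U.left.homOfLE_ι (inf_le_left : V i ⊓ V j ≤ V i), Category.assoc, ← Category.assoc k₀, hki]
      exact Over.w gi.hom.left
    let k : T ⟶ openObj p hpe (V i ⊓ V j) := EtOver.homMk (Over.homMk k₀ hw) (by
      rw [← EtOver.w gi, ← EtOver.w (openMap p hpe (inf_le_left : V i ⊓ V j ≤ V i)), ← Category.assoc,
        ← Functor.map_comp]
      congr 2
      exact Over.OverMorphism.ext hki)
    have ei : k ≫ openMap p hpe inf_le_left = gi := EtOver.hom_ext _ _ (Over.OverMorphism.ext hki)
    have ej : k ≫ openMap p hpe inf_le_right = gj := EtOver.hom_ext _ _ (Over.OverMorphism.ext hkj)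
    rw [← ei, ← ej, mapSec_comp, mapSec_comp]
    refine congrArg _ ((big M p hpe (V i ⊓ V j)).symm.injective ?_)
    exact hsf i j
  refine ⟨(big M p hpe (iSup V)).symm s, fun j => ?_, fun t ht => ?_⟩
  · apply (big M p hpe (V j)).injective
    refine ((big M p hpe (V j)).apply_symm_apply _).trans ?_
    show mapSec M _ (big M p hpe (iSup V) ((big M p hpe (iSup V)).symm s)) = _
    rw [AddEquiv.apply_symm_apply]
    exact hs j
  · apply (big M p hpe (iSup V)).injective
    rw [AddEquiv.apply_symm_apply]
    refine mapSec_ext M _ hcov _ _ fun j => (Eq.trans ?_ (hs j).symm)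
    exact ((big M p hpe (V j)).apply_symm_apply _).symm.trans (congrArg (big M p hpe (V j)) (ht j))

/-- The module of small sections on the Zariski site of a chart. -/
def smallModule : U.left.Modules where
  val := PresheafOfModules.ofPresheaf (smallPresheaf M p hpe)
    (fun _ _ f a x => smallPresheaf_map_smul M p hpe f a x)
  isSheaf := smallPresheaf_isSheaf M p hpe

theorem isLocalizedModule_open {O : U.left.Opens} (hO : IsAffineOpen O) (f : Γ(U.left, O)) :
    letI W : Over (openObj p hpe O) := Over.mk (openMap p hpe (U.left.basicOpen_le f))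
    IsLocalizedModule (Submonoid.powers ((ringEquivOpen p hpe O).symm f))
      (TensorProduct.mk (ΓE (openObj p hpe O)) (ΓE W.left) (Sec M (openObj p hpe O)) 1) := by
  let W : Over (openObj p hpe O) := Over.mk (openMap p hpe (U.left.basicOpen_le f))
  change IsLocalizedModule _ (TensorProduct.mk (ΓE (openObj p hpe O)) (ΓE W.left) (Sec M (openObj p hpe O)) 1)
  let σO := ringEquivOpen p hpe O
  let σD := ringEquivOpen p hpe (U.left.basicOpen f)
  have hφ : ∀ a, σD (algebraMap (ΓE (openObj p hpe O)) (ΓE W.left) a) =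
      U.left.presheaf.map (homOfLE (U.left.basicOpen_le f)).op (σO a) := fun a =>
    ringEquivOpen_map p hpe _ a
  haveI := hO.isLocalization_basicOpen f
  haveI : IsLocalization (Submonoid.powers (σO.symm f)) (ΓE W.left) := by
    refine ⟨⟨?_, ?_, fun {x y} h => ?_⟩⟩
    · rintro ⟨y, n, rfl⟩
      refine (isUnit_map_iff σD _).1 ?_
      show IsUnit (σD _)
      rw [hφ, map_pow, RingEquiv.apply_symm_apply]
      exact IsLocalization.map_units Γ(U.left, U.left.basicOpen f)
        (⟨f ^ n, n, rfl⟩ : Submonoid.powers f)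
    · intro z
      obtain ⟨⟨x, ⟨_, n, rfl⟩⟩, hx⟩ := IsLocalization.surj (Submonoid.powers f) (σD z)
      refine ⟨⟨σO.symm x, ⟨σO.symm f ^ n, n, rfl⟩⟩, σD.injective ?_⟩
      rw [map_mul, hφ, hφ, map_pow, RingEquiv.apply_symm_apply, RingEquiv.apply_symm_apply]
      exact hx
    · obtain ⟨⟨_, n, rfl⟩, hc⟩ := IsLocalization.exists_of_eq (M := Submonoid.powers f)
        (S := Γ(U.left, U.left.basicOpen f)) (x := σO x) (y := σO y) (by
          have := congrArg σD h
          rw [hφ, hφ] at this
          exact this)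
      refine ⟨⟨σO.symm f ^ n, n, rfl⟩, σO.injective ?_⟩
      rw [map_mul, map_mul, map_pow, RingEquiv.apply_symm_apply]
      exact hc
  exact (isLocalizedModule_iff_isBaseChange (Submonoid.powers (σO.symm f)) (ΓE W.left) _).2
    (TensorProduct.isBaseChange _ _ _)

theorem isQCoh_smallModule : Coh.IsQCoh (smallModule M p hpe) := by
  refine Coherent.isQCoh_of_localizesOn (smallModule M p hpe) (fun O : U.left.affineOpens => O.1)
    (fun O => O.2) (fun x => ?_) fun O => ?_
  · obtain ⟨V, hV, hxV, -⟩ := exists_isAffineOpen_mem_and_subset (x := x) (U := ⊤) trivial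
    exact ⟨⟨V, hV⟩, hxV⟩
  obtain ⟨O, hO⟩ := O
  haveI : IsAff (openObj p hpe O) := hO
  constructor
  · intro f s
    haveI := isLocalizedModule_open M p hpe hO f
    let W : Over (openObj p hpe O) := Over.mk (openMap p hpe (U.left.basicOpen_le f))
    have hW : IsAff W.left := hO.basicOpen f
    obtain ⟨y, hy⟩ := (isBC M (openObj p hpe O) W hW).surjective (big M p hpe _ s)
    obtain ⟨⟨m, ⟨_, n, rfl⟩⟩, hm⟩ := IsLocalizedModule.surj
      (Submonoid.powers ((ringEquivOpen p hpe O).symm f))
      (TensorProduct.mk (ΓE (openObj p hpe O)) (ΓE W.left) (Sec M (openObj p hpe O)) 1) y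
    refine ⟨n, (big M p hpe O).symm m, (big M p hpe (U.left.basicOpen f)).injective ?_⟩
    have h := congrArg (bcMap M (openObj p hpe O) W) hm
    refine Eq.trans ?_ (big_smul M p hpe _ _ s).symm
    refine ((big M p hpe _).apply_symm_apply _).trans ?_
    show mapSec M W.hom (big M p hpe O ((big M p hpe O).symm m)) =
      (ringEquivOpen p hpe (U.left.basicOpen f)).symm
        (U.left.presheaf.map (homOfLE (U.left.basicOpen_le f)).op (f ^ n)) •
          big M p hpe (U.left.basicOpen f) s
    rw [AddEquiv.apply_symm_apply, ← ringEquivOpen_symm_map, map_pow, ← hy]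
    have h' : bcMap M (openObj p hpe O) W ((1 : ΓE W.left) ⊗ₜ m) = mapSec M W.hom m := by
      rw [bcMap_tmul, one_smul]
    refine h'.symm.trans (h.symm.trans ?_)
    clear h h' hm hy
    induction y using TensorProduct.induction_on with
    | zero => simp
    | tmul a x =>
      show bcMap M _ W (((ringEquivOpen p hpe O).symm f ^ n) • (a ⊗ₜ x)) = _
      rw [TensorProduct.smul_tmul', bcMap_tmul, bcMap_tmul, Algebra.smul_def, mul_smul]
      rfl
    | add x y hx hy => simp only [smul_add, map_add] at *; rw [hx, hy]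
  · intro f t ht
    haveI := isLocalizedModule_open M p hpe hO f
    let W : Over (openObj p hpe O) := Over.mk (openMap p hpe (U.left.basicOpen_le f))
    have hW : IsAff W.left := hO.basicOpen f
    have h0 : (1 : ΓE W.left) ⊗ₜ[ΓE (openObj p hpe O)] (big M p hpe O t) = (1 : ΓE W.left) ⊗ₜ 0 := by
      refine (isBC M (openObj p hpe O) W hW).injective ?_
      rw [bcMap_tmul, bcMap_tmul, one_smul, one_smul, map_zero]
      have := congrArg (big M p hpe (U.left.basicOpen f)) ht
      rw [map_zero] at this
      exact ((big M p hpe _).apply_symm_apply _).symm.trans this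
    obtain ⟨⟨_, n, rfl⟩, hc⟩ := IsLocalizedModule.exists_of_eq
      (S := Submonoid.powers ((ringEquivOpen p hpe O).symm f))
      (f := TensorProduct.mk (ΓE (openObj p hpe O)) (ΓE W.left) (Sec M (openObj p hpe O)) 1) h0
    refine ⟨n, (big M p hpe O).injective ?_⟩
    refine (big_smul M p hpe O _ t).trans ?_
    rw [map_pow, map_zero]
    exact hc.trans (smul_zero _)

variable {M} (hrep : Representable p)
  [(SheafOfModules.pushforward.{u + 1} (bcRingHom hrep)).IsRightAdjoint]

/-- The comparison of the inverse image along a chart with restriction. -/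
def chartIso : (SheafOfModules.pushforward.{u + 1} (Stk19b.QPullEtale.postcompRingHom hpe)).obj M ≅
    (pullModEt hrep).obj M :=
  ((Stk19b.QPullEtale.restrictPushAdj hrep hpe).leftAdjointUniq (pullPushAdjModEt hrep)).app M

/-- The comparison on sections over an object of the site of the chart. -/
def chartSec (E : EtOver ((yon S).obj U)) :=
  ((SheafOfModules.forget _ ⋙ PresheafOfModules.evaluation _ (op E)).mapIso
    (chartIso (M := M) p hpe hrep)).toLinearEquiv

/-- The small module is a Zariski companion. -/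
def companion : ZarCompanion U.left (smallModule M p hpe)
    ((resSchModEt U).obj ((pullModEt hrep).obj M)) where
  iso W := ((chartSec p hpe hrep ((EtOver.ofScheme U).obj (etaleOfOpen U.left W))).toAddEquiv.symm.trans
    (big M p hpe W).symm).trans AddEquiv.ulift.symm
  map_smul W a m := by
    refine ULift.ext _ _ ?_
    show (big M p hpe W).symm _ = (show U.left.ringCatSheaf.obj.obj (op W) from a) •
      (show (smallPresheaf M p hpe).obj (op W) from (big M p hpe W).symm _)
    apply (big M p hpe W).injective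
    rw [AddEquiv.apply_symm_apply]
    refine Eq.trans ?_ (big_smul M p hpe W a _).symm
    rw [AddEquiv.apply_symm_apply]
    exact (chartSec p hpe hrep _).symm.map_smul _ m
  map_res {W W'} h m := by
    refine ULift.ext _ _ ?_
    show (big M p hpe W').symm _ = (big M p hpe W').symm (mapSec M (openMap p hpe h)
      (big M p hpe W ((big M p hpe W).symm _)))
    refine congrArg _ ?_
    rw [AddEquiv.apply_symm_apply]
    exact PresheafOfModules.naturality_apply (chartIso (M := M) p hpe hrep).inv.val
      ((EtOver.ofScheme U).map (etaleOfLE h)).op m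

end Groth.Agent.EtProj19
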