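import Groth.Agent.AlgSpLib.QCohEtSections
import Groth.Agent.AlgSpLib.QCohEtExtend
import Groth.Agent.AlgSpLib.PullModEt
import Groth.Agent.Stk19b.QPullEtale
import Groth.Agent.S0585
import Groth.Prelude.Def_AlgSpD
import Groth.Prelude.Def_AlgSpModX

/-! Local projectivity of quasi-coherent modules on the small etale site descends along charts. -/

set_option linter.all false
set_option backward.isDefEq.respectTransparency false
set_option backward.isDefEq.respectTransparency.types false

universe u

open CategoryTheory Limits AlgebraicGeometry Opposite TensorProduct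
open AlgSp
open Groth.Agent.AlgSpLib.QCohEt

noncomputable section

namespace Groth.Agent.EtProj19

variable {S : Scheme.{u}} {X : Sp S} (M : ModEt X) [M.IsQuasicoherent]

/-- Base change of sections as a linear equivalence. -/
def bcEquiv (E : EtOver X) [IsAff E] (W : Over E) (hW : IsAff W.left) :
    ΓE W.left ⊗[ΓE E] Sec M E ≃ₗ[ΓE W.left] Sec M W.left :=
  LinearEquiv.ofBijective
    { toFun := bcMap M E W
      map_add' := map_add _
      map_smul' := fun r x => by
        induction x using TensorProduct.induction_on with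
        | zero => simp
        | tmul a m =>
          show bcMap M E W ((r * a) ⊗ₜ m) = r • bcMap M E W (a ⊗ₜ m)
          rw [bcMap_tmul, bcMap_tmul, mul_smul]
        | add x y hx hy => simp only [smul_add, map_add, hx, hy, RingHom.id_apply] at * }
    (isBC M E W hW)

/-- Projectivity of sections passes to affine objects over an affine object. -/
theorem projective_bc {E E' : EtOver X} (g : E' ⟶ E) [IsAff E] [IsAff E']
    [Module.Projective (ΓE E) (Sec M E)] : Module.Projective (ΓE E') (Sec M E') := by
  have h : Module.Projective (ΓE (Over.mk g).left) (Sec M (Over.mk g).left) :=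
    Module.Projective.of_equiv' (bcEquiv M E (Over.mk g) ‹IsAff E'›)
  exact h

/-- A finite product of projective modules over the factors is projective over the product. -/
theorem projective_pi {ι : Type} [Fintype ι] (B : ι → Type*) [∀ i, CommRing (B i)] (P : ι → Type*)
    [∀ i, AddCommGroup (P i)] [∀ i, Module (B i) (P i)] [∀ i, Module.Projective (B i) (P i)] :
    Module.Projective (Π j, B j) (Π i, P i) := by
  classical
  letI : ∀ i, Module (Π j, B j) (P i) := fun i => Module.compHom _ (Pi.evalRingHom B i)
  have hP : ∀ i (b : Π j, B j) (x : P i), b • x = b i • x := fun _ _ _ => rfl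
  have key : ∀ i, Module.Projective (Π j, B j) (P i) := fun i => by
    obtain ⟨s, hs⟩ := (inferInstance : Module.Projective (B i) (P i))
    refine Module.Projective.of_split (P := P i)
      (M := P i →₀ Π j, B j)
      { toFun := fun x => (s x).mapRange (Pi.single i) (Pi.single_zero i)
        map_add' := fun x y => by
          ext z j
          simp [Pi.single_add]
        map_smul' := fun b x => by
          ext z j
          rw [hP, map_smul]
          by_cases h : j = i
          · subst h; simp
          · simp [h] } (Finsupp.linearCombination _ id) ?_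
    refine LinearMap.ext fun x => ?_
    show Finsupp.linearCombination _ id ((s x).mapRange (Pi.single i) (Pi.single_zero i)) = x
    rw [Finsupp.linearCombination_apply, Finsupp.sum_mapRange_index (by simp)]
    conv_rhs => rw [← hs x, Finsupp.linearCombination_apply]
    refine Finset.sum_congr rfl fun z _ => ?_
    show Pi.single i ((s x) z) • z = (s x) z • z
    rw [hP, Pi.single_eq_same]
  haveI := key
  exact Module.Projective.of_equiv (M := DirectSum ι P) (N := Π i, P i) (R := Π j, B j) (S := Π j, B j)
    ({ (DirectSum.linearEquivFunOnFintype (Π j, B j) ι P).toAddEquiv with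
      map_smul' := fun b x => funext fun i => by
        show (b • x) i = b i • x i
        rw [← hP]
        rfl } : DirectSum ι P ≃ₗ[Π j, B j] Π i, P i)

/-- Base change to a finite product. -/
theorem projective_baseChange_pi {A : Type*} [CommRing A] {ι : Type} [Fintype ι] (B : ι → Type*)
    [∀ i, CommRing (B i)] [∀ i, Algebra A (B i)] (N : Type*) [AddCommGroup N] [Module A N]
    [∀ i, Module.Projective (B i) (B i ⊗[A] N)] :
    Module.Projective (Π i, B i) ((Π i, B i) ⊗[A] N) := by
  classical
  haveI := projective_pi B fun i => B i ⊗[A] N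
  let e := TensorProduct.piLeft A N B
  let e' : (Π i, B i) ⊗[A] N ≃ₗ[Π i, B i] Π i, B i ⊗[A] N :=
    { e.toAddEquiv with
      map_smul' := fun b x => by
        show e (b • x) = b • e x
        induction x using TensorProduct.induction_on with
        | zero => simp
        | tmul a m =>
          funext i
          simp [e, TensorProduct.smul_tmul']
        | add x y hx hy => simp only [smul_add, map_add, hx, hy] }
  exact Module.Projective.of_equiv' e'.symm

/-- Projectivity of sections descends along finite affine coverings. -/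
theorem projective_descent {E : EtOver X} [IsAff E] {ι : Type} [Finite ι] {Z : ι → EtOver X}
    (g : ∀ i, Z i ⟶ E) (hZ : ∀ i, IsAff (Z i)) (hcov : ∀ x, ∃ i, x ∈ Set.range (g i).hom.left.left)
    (hP : ∀ i, Module.Projective (ΓE (Z i)) (Sec M (Z i))) :
    Module.Projective (ΓE E) (Sec M E) := by
  classical
  haveI := Fintype.ofFinite ι
  let W : ι → Over E := fun i => Over.mk (g i)
  haveI hfl : ∀ i, Module.Flat (ΓE E) (ΓE (W i).left) := fun i => by
    haveI := hZ i
    exact flat_ΓMap (g i)
  haveI hf : Module.Flat (ΓE E) (Π i, ΓE (W i).left) := Module.Flat.of_linearEquiv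
    (DirectSum.linearEquivFunOnFintype (ΓE E) ι fun i => (ΓE (W i).left : Type (u + 1))).symm
  haveI : Module.FaithfullyFlat (ΓE E) (Π i, ΓE (W i).left) := by
    refine Module.FaithfullyFlat.of_comap_surjective fun p => ?_
    obtain ⟨i, q, hq, hqp⟩ := exists_comap_eq g hcov p.asIdeal p.isPrime
    refine ⟨⟨q.comap (Pi.evalRingHom (fun i => (ΓE (W i).left : Type (u + 1))) i), Ideal.IsPrime.comap _⟩, ?_⟩
    refine PrimeSpectrum.ext ?_
    rw [← hqp]
    rfl
  haveI hT : ∀ i, Module.Projective (ΓE (W i).left) (ΓE (W i).left ⊗[ΓE E] Sec M E) := fun i => by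
    haveI : Module.Projective (ΓE (W i).left) (Sec M (W i).left) := hP i
    exact Module.Projective.of_equiv' (bcEquiv M E (W i) (hZ i)).symm
  haveI := projective_baseChange_pi (A := ΓE E) (fun i => (ΓE (W i).left : Type (u + 1))) (Sec M E)
  exact Groth.Agent.S0585.result (ΓE E) (Π i, ΓE (W i).left) (Sec M E)

section Chart

variable {U : Over S} (p : (yon S).obj U ⟶ X) (hpe : IsEtaleMor p)

/-- The object of the site of `X` given by an open of a chart. -/
abbrev openObj (W : U.left.Opens) : EtOver X :=
  (EtOver.postcomp p hpe).obj ((EtOver.ofScheme U).obj (etaleOfOpen U.left W))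

/-- The ring of an open of a chart. -/
def ringEquivOpen (W : U.left.Opens) : ΓE (openObj p hpe W) ≃+* Γ(U.left, W) :=
  (ULift.ringEquiv (R := Γ(W.toScheme, ⊤))).trans W.topIso.commRingCatIsoToRingEquiv

variable {M} (hrep : Representable p)
  [(SheafOfModules.pushforward.{u + 1} (bcRingHom hrep)).IsRightAdjoint]
  (G : U.left.Modules) (c : ZarCompanion U.left G ((resSchModEt U).obj ((pullModEt hrep).obj M)))

omit [M.IsQuasicoherent] in
include hrep c in
theorem projective_iff (W : U.left.Opens) :
    Module.Projective (ΓE (openObj p hpe W)) (Sec M (openObj p hpe W)) ↔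
      Module.Projective (U.left.ringCatSheaf.obj.obj (op W)) (G.val.obj (op W)) := by
  let η := (Stk19b.QPullEtale.restrictPushAdj hrep hpe).leftAdjointUniq (pullPushAdjModEt hrep)
  let e₁ := ((SheafOfModules.forget _ ⋙ PresheafOfModules.evaluation _
    (op ((EtOver.ofScheme U).obj (etaleOfOpen U.left W)))).mapIso (η.app M)).toLinearEquiv
  let σ := ringEquivOpen p hpe W
  let σ₁ : ΓE (openObj p hpe W) →+* U.left.ringCatSheaf.obj.obj (op W) := σ.toRingHom
  let σ₂ : U.left.ringCatSheaf.obj.obj (op W) →+* ΓE (openObj p hpe W) := σ.symm.toRingHom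
  haveI : RingHomInvPair σ₁ σ₂ := ⟨RingHom.ext σ.symm_apply_apply, RingHom.ext σ.apply_symm_apply⟩
  haveI : RingHomInvPair σ₂ σ₁ := ⟨RingHom.ext σ.apply_symm_apply, RingHom.ext σ.symm_apply_apply⟩
  let e : Sec M (openObj p hpe W) ≃ₛₗ[σ₁] G.val.obj (op W) :=
    { (e₁.toAddEquiv.trans ((c.iso W).trans AddEquiv.ulift)) with
      map_smul' := fun r m => by
        obtain ⟨a, rfl⟩ := σ.symm.surjective r
        have h1 : σ₁ (σ.symm a) = a := σ.apply_symm_apply a
        rw [h1]
        show (c.iso W (e₁ ((σ.symm a) • m))).down = a • (c.iso W (e₁ m)).down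
        have h2 : e₁ ((σ.symm a) • m) = (ULift.up (W.topIso.inv a) :
            (OEtSchRing U.left).obj.obj (op (etaleOfOpen U.left W))) •
            (show ((resSchModEt U).obj ((pullModEt hrep).obj M)).val.obj
              (op (etaleOfOpen U.left W)) from e₁ m) := e₁.map_smul _ m
        rw [h2]
        exact congrArg ULift.down (c.map_smul W a (e₁ m)) }
  exact ⟨fun h => Module.Projective.of_equiv e, fun h => Module.Projective.of_equiv e.symm⟩

end Chart

/-- Descent of local projectivity between charts. -/
theorem projective_of_chart {U : Over S} (p : (yon S).obj U ⟶ X) (hrep : Representable p)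
    (hp : RepWith @Etale p) (hs : RepWith @Surjective p)
    [(SheafOfModules.pushforward.{u + 1} (bcRingHom hrep)).IsRightAdjoint]
    (G : U.left.Modules) (c : ZarCompanion U.left G ((resSchModEt U).obj ((pullModEt hrep).obj M)))
    (hG : ∀ W : U.left.Opens, IsAffineOpen W →
      Module.Projective (U.left.ringCatSheaf.obj.obj (op W)) (G.val.obj (op W)))
    (E : EtOver X) [IsAff E] : Module.Projective (ΓE E) (Sec M E) := by
  have hpe := isEtaleMor_of_repWith p hp
  let E₀ : EtOver X := EtOver.mk p hp
  let P := EtOver.prodObj E E₀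
  let R : Sieve E := Sieve.ofObjects (fun W : {W : U.left.Opens // IsAffineOpen W} => openObj p hpe W.1) E
  have hR : R ∈ etTop X E := by
    have hsurj : Surjective (EtOver.prodFst E E₀).hom.left.left :=
      hs.2 E.obj.hom _ _ (E₀.property.1.isPullback E.obj.hom)
    let m : P.obj.left.left ⟶ U.left := (EtOver.prodSnd E E₀).hom.left.left
    let Z : {W : U.left.Opens // IsAffineOpen W} → EtOver X := fun W =>
      (EtOver.ofChart P.obj.hom P.property).obj (etaleOfOpen P.obj.left.left (m ⁻¹ᵁ W.1))
    let g : ∀ W, Z W ⟶ E := fun W =>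
      (EtOver.homMk (EtOver.homOfEtale _) rfl : Z W ⟶ P) ≫ EtOver.prodFst E E₀
    refine (etTop X).superset_covering ?_ (ofArrows_mem_etTop Z g fun x => ?_)
    · rw [Sieve.ofArrows, Sieve.generate_le_iff]
      rintro _ _ ⟨W⟩
      have hw : m.resLE W.1 (m ⁻¹ᵁ W.1) le_rfl ≫ W.1.ι ≫ U.hom = (m ⁻¹ᵁ W.1).ι ≫ P.obj.left.hom := by
        rw [Scheme.Hom.resLE_comp_ι_assoc]
        exact congrArg _ (Over.w (EtOver.prodSnd E E₀).hom.left)
      refine (Sieve.mem_ofObjects_iff ..).2 ⟨W, ⟨EtOver.homMk (Over.homMk (m.resLE W.1 (m ⁻¹ᵁ W.1) le_rfl) hw) ?_⟩⟩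
      · show (yon S).map _ ≫ ((yon S).map _ ≫ 𝟙 _) ≫ p = (yon S).map _ ≫ P.obj.hom
        rw [Category.comp_id, ← EtOver.w (EtOver.prodSnd E E₀), ← Category.assoc, ← Category.assoc,
          ← Functor.map_comp, ← Functor.map_comp]
        congr 2
        apply Over.OverMorphism.ext
        exact Scheme.Hom.resLE_comp_ι _ _
    · obtain ⟨z, rfl⟩ := hsurj.surj x
      obtain ⟨W, hW, hzW, -⟩ := exists_isAffineOpen_mem_and_subset (x := m z) (U := ⊤) trivial
      exact ⟨⟨W, hW⟩, ⟨z, hzW⟩, rfl⟩
  obtain ⟨ι, hfin, Z, g, hZ, hg, hcov⟩ := exists_finite_affine_refinement hR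
  refine projective_descent M g hZ hcov fun j => ?_
  obtain ⟨W, ⟨t⟩⟩ := (Sieve.mem_ofObjects_iff ..).1 (hg j)
  haveI : IsAff (openObj p hpe W.1) := W.2
  haveI := hZ j
  haveI := (projective_iff p hpe hrep G c W.1).2 (hG W.1 W.2)
  exact projective_bc M t

end Groth.Agent.EtProj19
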