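import Groth.Agent.EtProj19.Companion
import Groth.Agent.Stk19b.QPullEt

/-! Inverse images of locally projective quasi-coherent modules are locally projective. -/

set_option linter.all false
set_option backward.isDefEq.respectTransparency false
set_option backward.isDefEq.respectTransparency.types false

universe u

open CategoryTheory Limits AlgebraicGeometry Opposite
open AlgSp
open Groth.Agent.AlgSpLib.QCohEt

noncomputable section

namespace Groth.Agent.EtProj19

variable {S : Scheme.{u}} {X Y : Sp S}

/-- Sections of free modules on affine objects are projective. -/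
theorem projective_free (c : EtOver X) [IsAff c] (I : Type (u + 1)) :
    Projective ((Γtop c).obj (SheafOfModules.free (R := (OEtRing X).over c) I)) := by
  obtain ⟨N, ⟨e⟩⟩ := essImage_unit c
  let i : N ≅ ModuleCat.of (ΓE c) (ΓE c) :=
    asIso ((adj c).unit.app N) ≪≫ (Γtop c).mapIso e ≪≫
      LinearEquiv.toModuleIso
        (show (Γtop c).obj (SheafOfModules.unit ((OEtRing X).over c)) ≃ₗ[ΓE c] ΓE c from
          LinearEquiv.refl _ _)
  haveI : Projective (ModuleCat.of (ΓE c) (ΓE c)) :=
    (IsProjective.iff_projective (ModuleCat.of (ΓE c) (ΓE c))).1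
      (inferInstanceAs (Module.Projective (ΓE c) (ΓE c)))
  haveI : Projective N := Projective.of_iso i.symm this
  let e' : (L c).obj (∐ fun _ : I => N) ≅ SheafOfModules.free (R := (OEtRing X).over c) I :=
    PreservesCoproduct.iso (L c) (fun _ => N) ≪≫ Sigma.mapIso fun _ => e
  exact Projective.of_iso (asIso ((adj c).unit.app _) ≪≫ (Γtop c).mapIso e') inferInstance

/-- A module with a presentation and projective sections is a direct summand of a free module. -/
theorem exists_section_generators (M : ModEt Y) (E : EtOver Y) [IsAff E] (P : (M.over E).Presentation)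
    [Module.Projective (ΓE E) (Sec M E)] :
    ∃ i : M.over E ⟶ SheafOfModules.free P.generators.I, i ≫ P.generators.π = 𝟙 _ := by
  haveI : (L E).PreservesZeroMorphisms := Functor.preservesZeroMorphisms_of_isLeftAdjoint _
  obtain ⟨N, ⟨a⟩⟩ := essImage_of_presentation E P
  obtain ⟨N₀, ⟨a₀⟩⟩ := essImage_free E P.generators.I
  haveI : Projective ((Γtop E).obj (M.over E)) :=
    (IsProjective.iff_projective ((Γtop E).obj (M.over E))).1 ‹Module.Projective (ΓE E) (Sec M E)›
  haveI : Projective N := Projective.of_iso (asIso ((adj E).unit.app N) ≪≫ (Γtop E).mapIso a).symm inferInstance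
  obtain ⟨f, hf⟩ := (L E).map_surjective (a₀.hom ≫ P.generators.π ≫ a.inv)
  haveI : Epi ((L E).map f) := by rw [hf]; infer_instance
  haveI : Epi f := (L E).epi_of_epi_map inferInstance
  let s := Projective.factorThru (𝟙 N) f
  refine ⟨a.inv ≫ (L E).map s ≫ a₀.hom, ?_⟩
  rw [Category.assoc, Category.assoc, ← cancel_mono a.inv]
  simp only [Category.assoc, ← hf, ← Functor.map_comp, Projective.factorThru_comp, s,
    CategoryTheory.Functor.map_id, Category.comp_id, Category.id_comp]

variable {f : X ⟶ Y} (hf : Representable f) [(SheafOfModules.pushforward.{u + 1} (bcRingHom hf)).IsRightAdjoint]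

open Stk19b in
/-- The inverse image of a direct summand of a free module is one. -/
theorem exists_summand (M : ModEt Y) (E : EtOver Y) {I : Type (u + 1)}
    (i : M.over E ⟶ SheafOfModules.free I) (r : SheafOfModules.free I ⟶ M.over E) (h : i ≫ r = 𝟙 _) :
    ∃ (s : ((pullModEt hf).obj M).over ((EtOver.bc hf).obj E) ⟶ SheafOfModules.free I)
      (g : SheafOfModules.free I ⟶ ((pullModEt hf).obj M).over ((EtOver.bc hf).obj E)), s ≫ g = 𝟙 _ := by
  let φ := QPull.phiOver (EtOver.bc hf) (bcRingHom hf) E
  let e := QPull.overCorep (EtOver.bc hf) (bcRingHom hf) M E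
  let g := (QPull.freeEquiv (Over.post (EtOver.bc hf)) φ I _).symm (r ≫ e _ (𝟙 _))
  refine ⟨(e _).symm (i ≫ QPull.freeEquiv (Over.post (EtOver.bc hf)) φ I _ (𝟙 _)), g, (e _).injective ?_⟩
  rw [QPull.overCorep_comp, Equiv.apply_symm_apply, Category.assoc, ← QPull.freeEquiv_eq,
    Equiv.apply_symm_apply, ← Category.assoc, h, Category.id_comp]

/-- Sections of an inverse image on affine objects over a presented chart are projective. -/
theorem projective_sec_pull (M : ModEt Y) (E : EtOver Y) [IsAff E] (P : (M.over E).Presentation)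
    [Module.Projective (ΓE E) (Sec M E)] (Z : EtOver X) [IsAff Z] (k : Z ⟶ (EtOver.bc hf).obj E) :
    Module.Projective (ΓE Z) (Sec ((pullModEt hf).obj M) Z) := by
  obtain ⟨i, hi⟩ := exists_section_generators M E P
  obtain ⟨s, g, hsg⟩ := exists_summand hf M E i _ hi
  let Φ := SheafOfModules.overMap.{u + 1} (OEtRing X) k
  haveI : PreservesColimitsOfSize.{u + 1, u + 1} Φ := inferInstance
  let a : Φ.obj (((pullModEt hf).obj M).over ((EtOver.bc hf).obj E)) ≅ ((pullModEt hf).obj M).over Z :=
    (SheafOfModules.overFunctorMap (OEtRing X) k).app _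
  let b : Φ.obj (SheafOfModules.free P.generators.I) ≅ SheafOfModules.free P.generators.I :=
    PreservesCoproduct.iso Φ (fun _ : P.generators.I => SheafOfModules.unit _) ≪≫
      Sigma.mapIso fun _ => SheafOfModules.overMapUnitIso k
  let ρ : Retract ((Γtop Z).obj (((pullModEt hf).obj M).over Z))
      ((Γtop Z).obj (SheafOfModules.free (R := (OEtRing X).over Z) P.generators.I)) :=
    { i := (Γtop Z).map (a.inv ≫ Φ.map s ≫ b.hom)
      r := (Γtop Z).map (b.inv ≫ Φ.map g ≫ a.hom)
      retract := by
        rw [← Functor.map_comp, Category.assoc, Category.assoc, Iso.hom_inv_id_assoc,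
          ← Functor.map_comp_assoc, hsg, CategoryTheory.Functor.map_id, Category.id_comp, Iso.inv_hom_id,
          CategoryTheory.Functor.map_id] }
  haveI := projective_free Z P.generators.I
  exact (IsProjective.iff_projective ((Γtop Z).obj (((pullModEt hf).obj M).over Z))).2 ρ.projective

/-- Inverse images of locally projective modules are locally projective. -/
theorem projective_pull (hY : IsAlgSpace Y) (G : ModEt Y) [G.IsQuasicoherent]
    (hG : ∀ E : EtOver Y, IsAff E → Module.Projective (ΓE E) (Sec G E)) (E' : EtOver X) [IsAff E'] :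
    Module.Projective (ΓE E') (Sec ((pullModEt hf).obj G) E') := by
  obtain ⟨q⟩ := SheafOfModules.IsQuasicoherent.nonempty_quasicoherentData (M := G)
  let J := {E : EtOver Y // IsAff E ∧ Nonempty ((G.over E).Presentation)}
  have hJ : (etTop Y).CoversTop (fun E : J => E.1) := by
    intro V
    refine (etTop Y).transitive (coversTop_affine Y V) _ fun W w hw => ?_
    obtain ⟨⟨E, hE⟩, ⟨v⟩⟩ := (Sieve.mem_ofObjects_iff ..).1 hw
    haveI : IsAff E := hE
    obtain ⟨ι, hι, Z, z, hZ, hz, hc⟩ := exists_finite_affine_refinement (q.coversTop E)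
    refine (etTop Y).superset_covering ?_ ((etTop Y).pullback_stable v (ofArrows_mem_etTop Z z hc))
    rintro T t ⟨_, b, _, ⟨j⟩, hb⟩
    show Sieve.ofObjects (fun E : J => E.1) V (t ≫ w)
    haveI := hZ j
    obtain ⟨i, ⟨h⟩⟩ := (Sieve.mem_ofObjects_iff ..).1 (hz j)
    haveI : PreservesColimitsOfSize.{u + 1, u + 1} (SheafOfModules.overMap.{u + 1} (OEtRing _) h) :=
      inferInstance
    exact (Sieve.mem_ofObjects_iff ..).2 ⟨⟨Z j, hZ j, ⟨((q.presentation i).map
      (SheafOfModules.overMap (OEtRing _) h) (SheafOfModules.overMapUnitIso h).symm).ofIsIso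
        ((SheafOfModules.overFunctorMap (OEtRing _) h).app G).hom⟩⟩, ⟨b⟩⟩
  haveI := Stk19b.QPullEt.isQuasicoherent_pullModEt hf hY G inferInstance
  obtain ⟨ι, hι, Z, z, hZ, hz, hc⟩ :=
    exists_finite_affine_refinement (Stk19b.QPullEt.coversTop_bc hf hY _ hJ E')
  refine projective_descent _ z hZ hc fun j => ?_
  obtain ⟨⟨E, hE, ⟨P⟩⟩, ⟨k⟩⟩ := (Sieve.mem_ofObjects_iff ..).1 (hz j)
  haveI := hZ j
  haveI := hE
  haveI := hG E hE
  exact projective_sec_pull hf G E P (Z j) k

/-- The hypothesis of the statement gives projective sections on all affine objects. -/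
theorem projective_of_companions (G : ModEt Y) [G.IsQuasicoherent]
    (hsmall : ∀ E : EtOver Y, IsAff E → Small.{u} (Sec G E))
    (hproj : ∀ {V : Over S} (q : (yon S).obj V ⟶ Y) (hrepq : Representable q)
      [(SheafOfModules.pushforward.{u + 1} (bcRingHom hrepq)).IsRightAdjoint]
      (H : V.left.Modules) [Coh.IsQCoh H]
      (c : ZarCompanion V.left H ((resSchModEt V).obj ((pullModEt hrepq).obj G)))
      (W : V.left.Opens), RepWith @Etale q → IsAffineOpen W →
        Module.Projective (V.left.ringCatSheaf.obj.obj (op W)) (H.val.obj (op W)))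
    (E : EtOver Y) (hE : IsAff E) : Module.Projective (ΓE E) (Sec G E) := by
  haveI : IsAffine E.obj.left.left := hE
  let q := E.obj.hom
  have hqe := isEtaleMor_of_repWith q E.property
  haveI := isRightAdjoint_pushModEt (f := q) E.property.1
  haveI : ∀ W, Small.{u} (Sec G (openObj q hqe W)) := small_open G q hqe hsmall
  haveI := isQCoh_smallModule G q hqe
  haveI := (projective_iff q hqe E.property.1 (smallModule G q hqe) (companion q hqe E.property.1) ⊤).2
    (hproj q E.property.1 (smallModule G q hqe) (companion q hqe E.property.1) ⊤ E.property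
      (isAffineOpen_top E.obj.left.left))
  haveI : IsAff (openObj q hqe (⊤ : E.obj.left.left.Opens)) := isAffineOpen_top E.obj.left.left
  let σ : E.obj.left ⟶ Over.mk ((⊤ : E.obj.left.left.Opens).ι ≫ E.obj.left.hom) :=
    Over.homMk E.obj.left.left.topIso.inv (by
      show E.obj.left.left.topIso.inv ≫ (⊤ : E.obj.left.left.Opens).ι ≫ E.obj.left.hom = _
      rw [← Scheme.topIso_hom, Iso.inv_hom_id_assoc])
  let t : E ⟶ openObj q hqe ⊤ := EtOver.homMk σ (by
    show (yon S).map σ ≫ ((yon S).map _ ≫ 𝟙 _) ≫ q = E.obj.hom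
    rw [Category.comp_id, ← Category.assoc, ← Functor.map_comp]
    refine Eq.trans ?_ (Category.id_comp q)
    rw [← CategoryTheory.Functor.map_id]
    congr 2
    exact Over.OverMorphism.ext E.obj.left.left.topIso.inv_hom_id)
  exact projective_bc G t

end Groth.Agent.EtProj19
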